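import Cfsg.Agent.H113.QS.Lies

/-!
# A bound for the sum of the characters of one degree (helper113, row 2.B of S2491, S2492)

* `mass` : `F ⊆ O`, `h = σ` on `F`, `∑_O ‖h‖² ≤ σ`, `h ⊥ ψ`, `∑_O ‖ψ‖² ≤ C`: `4 σ ‖∑_F ψ‖² ≤ C`;
* `pyth` : Pythagoras.
-/

set_option autoImplicit false

namespace Cfsg.Agent.H113.QS.TwoB

open scoped ComplexConjugate

variable {ι : Type*}

/-- **The mass bound.** -/
theorem mass [DecidableEq ι] {O F : Finset ι} (hFO : F ⊆ O) {h ψ : ι → ℂ} {σ C : ℝ} (hσ : 0 < σ)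
    (hF : ∀ χ ∈ F, h χ = σ) (hh : ∑ χ ∈ O, ‖h χ‖ ^ 2 ≤ σ) (horth : ∑ χ ∈ O, h χ * conj (ψ χ) = 0)
    (hψ : ∑ χ ∈ O, ‖ψ χ‖ ^ 2 ≤ C) : 4 * σ * ‖∑ χ ∈ F, ψ χ‖ ^ 2 ≤ C := by
  obtain ⟨m, hm⟩ : ∃ m : ℝ, m = (F.card : ℝ) := ⟨_, rfl⟩
  set w : ι → ℂ := fun χ => (if χ ∈ F then 1 else 0) - m * h χ with hw
  have e1 : ∑ χ ∈ O, w χ * conj (ψ χ) = ∑ χ ∈ F, conj (ψ χ) := by
    have h1 : ∀ χ ∈ O, w χ * conj (ψ χ) = (if χ ∈ F then conj (ψ χ) else 0) - m * (h χ * conj (ψ χ)) := by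
      intro χ _
      rw [hw]
      simp only
      split_ifs <;> ring
    rw [Finset.sum_congr rfl h1, Finset.sum_sub_distrib, ← Finset.mul_sum, horth, mul_zero, sub_zero,
      ← Finset.sum_filter, Finset.filter_mem_eq_inter, Finset.inter_eq_right.2 hFO]
  have e2 : ∑ χ ∈ O, ‖w χ‖ ^ 2 ≤ m - m ^ 2 * σ := by
    rw [← Finset.sum_sdiff hFO]
    have h1 : ∑ χ ∈ F, ‖w χ‖ ^ 2 = m * (1 - m * σ) ^ 2 := by
      rw [Finset.sum_congr rfl (g := fun _ => (1 - m * σ) ^ 2), Finset.sum_const, nsmul_eq_mul, hm]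
      intro χ hχ
      rw [hw]
      simp only [if_pos hχ, hF χ hχ]
      have : (1 : ℂ) - m * σ = ((1 - m * σ : ℝ) : ℂ) := by push_cast; ring
      rw [this, Complex.norm_real, Real.norm_eq_abs, sq_abs]
    have h2 : ∑ χ ∈ O \ F, ‖w χ‖ ^ 2 = m ^ 2 * ∑ χ ∈ O \ F, ‖h χ‖ ^ 2 := by
      rw [Finset.mul_sum]
      refine Finset.sum_congr rfl fun χ hχ => ?_
      rw [hw]
      simp only [if_neg (Finset.mem_sdiff.1 hχ).2, zero_sub, norm_neg, norm_mul, Complex.norm_real, Real.norm_eq_abs]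
      rw [mul_pow, sq_abs]
    have h3 : ∑ χ ∈ F, ‖h χ‖ ^ 2 = m * σ ^ 2 := by
      rw [Finset.sum_congr rfl (g := fun _ => σ ^ 2), Finset.sum_const, nsmul_eq_mul, hm]
      intro χ hχ
      rw [hF χ hχ, Complex.norm_real, Real.norm_eq_abs, sq_abs]
    have h4 : ∑ χ ∈ O \ F, ‖h χ‖ ^ 2 ≤ σ - m * σ ^ 2 := by
      rw [← Finset.sum_sdiff hFO, h3] at hh
      linarith
    rw [h1, h2]
    have h5 := mul_le_mul_of_nonneg_left h4 (sq_nonneg m)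
    nlinarith
  have e3 : ‖∑ χ ∈ F, ψ χ‖ ^ 2 ≤ (m - m ^ 2 * σ) * C := by
    have h1 : ‖∑ χ ∈ F, ψ χ‖ = ‖∑ χ ∈ O, w χ * conj (ψ χ)‖ := by
      rw [e1, ← map_sum, Complex.norm_conj]
    have h2 : ‖∑ χ ∈ O, w χ * conj (ψ χ)‖ ≤ ∑ χ ∈ O, ‖w χ‖ * ‖ψ χ‖ := by
      refine (norm_sum_le _ _).trans (le_of_eq ?_)
      exact Finset.sum_congr rfl fun χ _ => by rw [norm_mul, Complex.norm_conj]
    have h3 := Finset.sum_mul_sq_le_sq_mul_sq O (fun χ => ‖w χ‖) (fun χ => ‖ψ χ‖)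
    have h4 : (0 : ℝ) ≤ ∑ χ ∈ O, ‖ψ χ‖ ^ 2 := Finset.sum_nonneg fun _ _ => by positivity
    have h5 : (0 : ℝ) ≤ ∑ χ ∈ O, ‖w χ‖ ^ 2 := Finset.sum_nonneg fun _ _ => by positivity
    rw [h1]
    calc ‖∑ χ ∈ O, w χ * conj (ψ χ)‖ ^ 2 ≤ (∑ χ ∈ O, ‖w χ‖ * ‖ψ χ‖) ^ 2 := by gcongr
      _ ≤ (∑ χ ∈ O, ‖w χ‖ ^ 2) * ∑ χ ∈ O, ‖ψ χ‖ ^ 2 := h3
      _ ≤ (m - m ^ 2 * σ) * C := mul_le_mul e2 hψ h4 (h5.trans e2)
  have hC : 0 ≤ C := (Finset.sum_nonneg fun _ _ => by positivity).trans hψ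
  have h6 : 4 * σ * (m - m ^ 2 * σ) ≤ 1 := by nlinarith [sq_nonneg (1 - 2 * m * σ)]
  calc 4 * σ * ‖∑ χ ∈ F, ψ χ‖ ^ 2 ≤ 4 * σ * ((m - m ^ 2 * σ) * C) := by gcongr
    _ = (4 * σ * (m - m ^ 2 * σ)) * C := by ring
    _ ≤ 1 * C := by gcongr
    _ = C := one_mul _

/-- **Pythagoras.** -/
theorem pyth {O : Finset ι} {a b : ι → ℂ} (h : ∑ χ ∈ O, a χ * conj (b χ) = 0) :
    ∑ χ ∈ O, ‖a χ + b χ‖ ^ 2 = ∑ χ ∈ O, ‖a χ‖ ^ 2 + ∑ χ ∈ O, ‖b χ‖ ^ 2 := by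
  have h1 : ∀ χ ∈ O, ‖a χ + b χ‖ ^ 2 = ‖a χ‖ ^ 2 + ‖b χ‖ ^ 2 + 2 * (a χ * conj (b χ)).re := by
    intro χ _
    rw [← Complex.normSq_eq_norm_sq, ← Complex.normSq_eq_norm_sq, ← Complex.normSq_eq_norm_sq, Complex.normSq_add]
  rw [Finset.sum_congr rfl h1, Finset.sum_add_distrib, Finset.sum_add_distrib, ← Finset.mul_sum, ← Complex.re_sum, h]
  simp

end Cfsg.Agent.H113.QS.TwoB
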