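import Cfsg.Agent.H113.QS.TwoB.Deg
import Cfsg.Agent.H113.QS.TwoB.Mass

/-!
# The sum of the values of the characters of degree 96256 (helper113, row 2.B of S2491, S2492)

`theta_F` : `4 σ ‖∑_F χ(g)‖² ≤ |C_B(π g)|`, `σ = 1/31 + 4/38 + 4/68`, if `|C_B(π g)| > 68`.
-/

set_option autoImplicit false
set_option linter.unusedSectionVars false

namespace Cfsg.Agent.H113.QS.TwoB

open Cfsg Cfsg.Agent.Characters Subgroup Cfsg.Agent.H65.Ore Cfsg.Agent.H113.QS
open Cfsg.Agent.SmallSimple.ThetaSetup Cfsg.Agent.SmallSimple.ThetaOrtho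
open Cfsg.Agent.H653.Sieve Cfsg.Agent.H570.Ore.Abs
open scoped ComplexConjugate

universe u v

variable {L : Type u} [Group L] [Finite L] {B : Type v} [Group B] [Finite B] {π : L →* B}

/-- orthogonality from the orders of the centralizers of the images -/
theorem orth_card [Fintype (IrrCharacter L)] (hc : π.ker ≤ center L) (θ : IrrCharacter π.ker) {y g : L}
    (h : Nat.card (centralizer ({π y} : Set B)) ≠ Nat.card (centralizer ({π g} : Set B))) :
    ∑ χ ∈ ov π.ker (θ : π.ker → ℂ), (χ : L → ℂ) y * conj ((χ : L → ℂ) g) = 0 := by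
  apply orth_lies hc
  intro z hz
  apply h
  have h1 : IsConj (π (y * z)) (π g) := π.map_isConj hz
  rw [map_mul, show π (z : L) = 1 from z.2, mul_one] at h1
  exact (Blocks.SylowIn.card_centralizer_of_isConj h1.symm)

variable [IsSimpleGroup B] {Z : B}

/-- the local data at a prime with `e = p - 1`: an element `y` with an integral value -/
theorem exists_rat (D : Dt B Z) (hs : Function.Surjective π) (hc : π.ker ≤ center L) (h2 : Nat.card π.ker = 2)
    {p : ℕ} [hp : Fact p.Prime] (hp2 : p ≠ 2) {x : B} (hx : orderOf x = p) {k : ℕ}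
    (hcx : Nat.card (centralizer ({x} : Set B)) = p * k) (wl : List (ℕ × ℤ)) (c : ℤ) (b : Bool)
    (hnum : numOK NB p k (p - 1) 1 wl c b = true) :
    ∃ y : L, Nat.card (centralizer ({π y} : Set B)) = p * k ∧
      ∀ χ : IrrCharacter L, ∃ a : ℤ, (χ : L → ℂ) y = a ∧ (p : ℤ) ∣ (charDegree (χ : L → ℂ) : ℤ) - a ∧ a ^ 2 ≤ p * k := by
  classical
  have hfin : Finite (IrrCharacter L) := Core.finite_irr
  have := Fintype.ofFinite (IrrCharacter L)
  obtain ⟨-, P, M, hP, -, -, he, -, hcent⟩ := exists_loc D hs hc h2 hp2 hx hcx (p - 1) 1 wl c b hnum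
  obtain ⟨y, hy, hy1⟩ := exists_ne_one (P := (P : Subgroup L)) hP
  have hyo : orderOf y = p := order_eq (P := (P : Subgroup L)) hP hy hy1
  have hcy := hcent y hyo
  refine ⟨y, hcy, fun χ => ?_⟩
  obtain ⟨a, ha, had⟩ := int_value hP he χ hy hy1
  refine ⟨a, ha, had, ?_⟩
  obtain ⟨θ, hθ⟩ := exists_lies hc χ
  have h3 := sum_lies_sq_le hs hc θ y
  have h4 : ‖(χ : L → ℂ) y‖ ^ 2 ≤ ∑ ψ ∈ ov π.ker (θ : π.ker → ℂ), ‖(ψ : L → ℂ) y‖ ^ 2 :=
    Finset.single_le_sum (f := fun ψ : IrrCharacter L => ‖(ψ : L → ℂ) y‖ ^ 2) (fun _ _ => by positivity) (mem_ov.2 hθ)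
  have h5 := h4.trans h3
  rw [hcy, ha, Complex.norm_intCast, sq_abs] at h5
  exact_mod_cast h5

variable (D : Dt B Z) (hs : Function.Surjective π) (hc : π.ker ≤ center L) (h2 : Nat.card π.ker = 2)

include D hs hc h2

theorem exists19 : ∃ y : L, Nat.card (centralizer ({π y} : Set B)) = 38 ∧
    ∀ χ : IrrCharacter L, charDegree (χ : L → ℂ) = 96256 → (χ : L → ℂ) y = 2 := by
  have hF : Fact (Nat.Prime 19) := ⟨by norm_num⟩
  obtain ⟨x, hx, hcx⟩ := D.x19
  obtain ⟨y, hy, h⟩ := exists_rat D hs hc h2 (p := 19) (by norm_num) hx (k := 2) (by rw [hcx])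
    [(0, 0), (1, 1), (18, -1)] 0 false (by decide +kernel)
  refine ⟨y, by rw [hy], fun χ hχ => ?_⟩
  obtain ⟨a, ha, hd, h3⟩ := h χ
  rw [hχ] at hd
  norm_num at hd h3
  have h4 : a = 2 := by
    have h5 : a ≤ 6 := by nlinarith
    have h6 : -6 ≤ a := by nlinarith
    omega
  rw [ha, h4]
  norm_num

theorem exists17 : ∃ y : L, Nat.card (centralizer ({π y} : Set B)) = 68 ∧
    ∀ χ : IrrCharacter L, charDegree (χ : L → ℂ) = 96256 → (χ : L → ℂ) y = 2 := by
  have hF : Fact (Nat.Prime 17) := ⟨by norm_num⟩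
  obtain ⟨x, hx, hcx⟩ := D.x17
  obtain ⟨y, hy, h⟩ := exists_rat D hs hc h2 (p := 17) (by norm_num) hx (k := 4) (by rw [hcx])
    [(0, 0), (1, 1), (16, -1), (2, 2), (15, -2)] 0 false (by decide +kernel)
  refine ⟨y, by rw [hy], fun χ hχ => ?_⟩
  obtain ⟨a, ha, hd, h3⟩ := h χ
  rw [hχ] at hd
  norm_num at hd h3
  have h4 : a = 2 := by
    have h5 : a ≤ 8 := by nlinarith
    have h6 : -8 ≤ a := by nlinarith
    omega
  rw [ha, h4]
  norm_num

/-- **The sum over the characters of degree 96256.** -/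
theorem theta_F [Fintype (IrrCharacter L)] {θ : IrrCharacter π.ker} {x g : L}
    (hx : Nat.card (centralizer ({π x} : Set B)) = 31) (hg : 68 < Nat.card (centralizer ({π g} : Set B)))
    {F : Finset (IrrCharacter L)} (hFO : F ⊆ ov π.ker (θ : π.ker → ℂ)) (hFx : ∀ χ ∈ F, (χ : L → ℂ) x = 1)
    (hFd : ∀ χ ∈ F, charDegree (χ : L → ℂ) = 96256) :
    4 * (1 / 31 + 4 / 38 + 4 / 68) * ‖∑ χ ∈ F, (χ : L → ℂ) g‖ ^ 2 ≤
      (Nat.card (centralizer ({π g} : Set B)) : ℝ) := by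
  classical
  obtain ⟨y, hy, hFy⟩ := exists19 D hs hc h2
  obtain ⟨w, hw, hFw⟩ := exists17 D hs hc h2
  have o1 := orth_card hc θ (y := x) (g := y) (by rw [hx, hy]; norm_num)
  have o2 := orth_card hc θ (y := x) (g := w) (by rw [hx, hw]; norm_num)
  have o3 := orth_card hc θ (y := y) (g := w) (by rw [hy, hw]; norm_num)
  have o4 := orth_card hc θ (y := x) (g := g) (by rw [hx]; omega)
  have o5 := orth_card hc θ (y := y) (g := g) (by rw [hy]; omega)
  have o6 := orth_card hc θ (y := w) (g := g) (by rw [hw]; omega)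
  have s1 := sum_lies_sq_le hs hc θ x
  have s2 := sum_lies_sq_le hs hc θ y
  have s3 := sum_lies_sq_le hs hc θ w
  have s4 := sum_lies_sq_le hs hc θ g
  rw [hx] at s1
  rw [hy] at s2
  rw [hw] at s3
  set O := ov π.ker (θ : π.ker → ℂ) with hO
  refine mass hFO (h := fun χ : IrrCharacter L => ((χ : L → ℂ) x / 31 + 2 * (χ : L → ℂ) y / 38) + 2 * (χ : L → ℂ) w / 68)
    (ψ := fun χ : IrrCharacter L => (χ : L → ℂ) g) (by norm_num) ?_ ?_ ?_ s4
  · intro χ hχ
    simp only [hFx χ hχ, hFy χ (hFd χ hχ), hFw χ (hFd χ hχ)]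
    push_cast
    norm_num
  · rw [pyth, pyth]
    · have e1 : ∑ χ ∈ O, ‖(χ : L → ℂ) x / 31‖ ^ 2 = (∑ χ ∈ O, ‖(χ : L → ℂ) x‖ ^ 2) / 31 ^ 2 := by
        rw [Finset.sum_div]
        refine Finset.sum_congr rfl fun χ _ => ?_
        rw [norm_div, div_pow]
        norm_num
      have e2 : ∑ χ ∈ O, ‖2 * (χ : L → ℂ) y / 38‖ ^ 2 = (∑ χ ∈ O, ‖(χ : L → ℂ) y‖ ^ 2) * (4 / 38 ^ 2) := by
        rw [Finset.sum_mul]
        refine Finset.sum_congr rfl fun χ _ => ?_
        rw [norm_div, norm_mul, div_pow, mul_pow]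
        norm_num
        ring
      have e3 : ∑ χ ∈ O, ‖2 * (χ : L → ℂ) w / 68‖ ^ 2 = (∑ χ ∈ O, ‖(χ : L → ℂ) w‖ ^ 2) * (4 / 68 ^ 2) := by
        rw [Finset.sum_mul]
        refine Finset.sum_congr rfl fun χ _ => ?_
        rw [norm_div, norm_mul, div_pow, mul_pow]
        norm_num
        ring
      rw [e1, e2, e3]
      push_cast at s1 s2 s3
      linarith
    · have e1 : ∀ χ ∈ O, (χ : L → ℂ) x / 31 * conj (2 * (χ : L → ℂ) y / 38) =
          (2 / (31 * 38)) * ((χ : L → ℂ) x * conj ((χ : L → ℂ) y)) := by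
        intro χ _
        simp only [map_div₀, map_mul, map_ofNat]
        ring
      rw [Finset.sum_congr rfl e1, ← Finset.mul_sum, o1, mul_zero]
    · have e1 : ∀ χ ∈ O, ((χ : L → ℂ) x / 31 + 2 * (χ : L → ℂ) y / 38) * conj (2 * (χ : L → ℂ) w / 68) =
          (2 / (31 * 68)) * ((χ : L → ℂ) x * conj ((χ : L → ℂ) w)) +
            (4 / (38 * 68)) * ((χ : L → ℂ) y * conj ((χ : L → ℂ) w)) := by
        intro χ _
        simp only [map_div₀, map_mul, map_ofNat]
        ring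
      rw [Finset.sum_congr rfl e1, Finset.sum_add_distrib, ← Finset.mul_sum, ← Finset.mul_sum, o2, o3, mul_zero,
        mul_zero, add_zero]
  · have e1 : ∀ χ ∈ O, (((χ : L → ℂ) x / 31 + 2 * (χ : L → ℂ) y / 38) + 2 * (χ : L → ℂ) w / 68) * conj ((χ : L → ℂ) g) =
        (1 / 31) * ((χ : L → ℂ) x * conj ((χ : L → ℂ) g)) + (2 / 38) * ((χ : L → ℂ) y * conj ((χ : L → ℂ) g)) +
          (2 / 68) * ((χ : L → ℂ) w * conj ((χ : L → ℂ) g)) := by
      intro χ _
      ring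
    rw [Finset.sum_congr rfl e1, Finset.sum_add_distrib, Finset.sum_add_distrib, ← Finset.mul_sum, ← Finset.mul_sum,
      ← Finset.mul_sum, o4, o5, o6, mul_zero, mul_zero, mul_zero, add_zero, add_zero]

end Cfsg.Agent.H113.QS.TwoB
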