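import Cfsg.Agent.H570.Ore.Num

/-!
# The numerical part of the sieve in 2.B (helper113, S2491, S2492)

`n` divides `2 |B|`, `2048 ∣ n`, residues modulo `47, 23, 19`: `n ≡ ± 1 (31)` implies `n = 96256` or `n ≥ 10506240`;
`n ≡ ± 15 (31)` implies `n ≥ 4427776`.
-/

set_option autoImplicit false

namespace Cfsg.Agent.H113.QS.TwoB.Num

open Cfsg.Agent.H653.Sieve

/-- residue in a list -/
def rl (p n : ℕ) : List ℕ → Bool
  | [] => false
  | a :: l => Nat.beq (n % p) a || rl p n l

theorem rl_spec {p n : ℕ} : ∀ {l : List ℕ}, n % p ∈ l → rl p n l = true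
  | [], h => by simp at h
  | a :: l, h => by
    rw [rl, Bool.or_eq_true, Nat.beq_eq]
    rcases List.mem_cons.1 h with h | h
    · exact Or.inl h
    · exact Or.inr (rl_spec h)

/-- the test for `2048 n` -/
def chk (k : ℕ) : Bool :=
  bif !(rl 47 (2048 * k) [0, 1, 46, 23, 24]) then true else
  bif !(rl 23 (2048 * k) [0, 1, 22, 11, 12]) then true else
  bif !(rl 19 (2048 * k) [0, 1, 18, 2, 17, 3, 16]) then true else
  bif rl 31 (2048 * k) [1, 30] then Nat.beq k 47 || Nat.ble 5130 k else
  bif rl 31 (2048 * k) [15, 16] then Nat.ble 2162 k else true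

def L : List (ℕ × ℕ) := [(47, 1), (31, 1), (23, 1), (19, 1), (17, 1), (13, 1), (11, 1), (7, 2), (5, 6), (3, 13), (2, 31)]

set_option maxRecDepth 100000 in
theorem check : allDiv (5130 * 5130) chk L 1 = true := by decide +kernel

theorem fac : 2048 * facProd L = 2 * 4154781481226426191177580544000000 := by decide +kernel

theorem L_prime : ∀ pa ∈ L, pa.1.Prime := by
  intro pa hpa
  simp only [L, List.mem_cons, List.not_mem_nil, or_false] at hpa
  rcases hpa with rfl | rfl | rfl | rfl | rfl | rfl | rfl | rfl | rfl | rfl | rfl <;> norm_num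

/-- **The numerical statement.** -/
theorem num {n : ℕ} (hn : n ∣ 2 * 4154781481226426191177580544000000) (h11 : 2 ^ 11 ∣ n)
    (h47 : n % 47 ∈ [0, 1, 46, 23, 24]) (h23 : n % 23 ∈ [0, 1, 22, 11, 12]) (h19 : n % 19 ∈ [0, 1, 18, 2, 17, 3, 16]) :
    (n % 31 = 1 ∨ n % 31 = 30 → n = 96256 ∨ 10506240 ≤ n) ∧ (n % 31 = 15 ∨ n % 31 = 16 → 4427776 ≤ n) := by
  obtain ⟨k, rfl⟩ := h11
  rw [show 2 ^ 11 = 2048 by norm_num] at *
  rw [← fac] at hn
  have hk : k ∣ facProd L := Nat.dvd_of_mul_dvd_mul_left (by norm_num) hn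
  have key : k < 5130 → chk k = true := by
    intro h
    have h2 := allDiv_spec L_prime check k hk (by rw [one_mul]; exact Nat.mul_self_lt_mul_self h)
    rwa [one_mul] at h2
  have e47 := rl_spec h47
  have e23 := rl_spec h23
  have e19 := rl_spec h19
  constructor
  · intro h31
    by_contra hlt
    push Not at hlt
    have h2 := key (by omega)
    have e31 : rl 31 (2048 * k) [1, 30] = true := rl_spec (by simpa using h31)
    rw [chk, e47, e23, e19, e31] at h2
    simp only [Bool.not_true, cond_false, cond_true, Bool.or_eq_true, Nat.beq_eq] at h2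
    rcases h2 with h2 | h2
    · exact hlt.1 (by rw [h2])
    · have := Nat.le_of_ble_eq_true h2
      omega
  · intro h31
    by_contra hlt
    have h2 := key (by omega)
    have e31 : rl 31 (2048 * k) [15, 16] = true := rl_spec (by simpa using h31)
    have e31' : rl 31 (2048 * k) [1, 30] = false := by
      rw [Bool.eq_false_iff]
      intro h
      simp only [rl, Bool.or_eq_true, Nat.beq_eq, Bool.or_false] at h
      omega
    rw [chk, e47, e23, e19, e31', e31] at h2
    simp only [Bool.not_true, cond_false, cond_true] at h2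
    have := Nat.le_of_ble_eq_true h2
    omega

end Cfsg.Agent.H113.QS.TwoB.Num
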