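import Cfsg.Agent.H113.QS.TwoB.Local
import Cfsg.Agent.H113.QS.TwoB.Num
import Cfsg.Agent.H570.Ore.Abs

/-!
# The degrees of the faithful characters of 2.B (helper113, S2491, S2492)
-/

set_option autoImplicit false
set_option linter.unusedSectionVars false

namespace Cfsg.Agent.H113.QS.TwoB

open Cfsg Cfsg.Agent.Characters Subgroup Cfsg.Agent.H65.Ore Cfsg.Agent.H113.QS
open Cfsg.Agent.SmallSimple.ThetaSetup Cfsg.Agent.SmallSimple.ThetaOrtho
open Cfsg.Agent.H653.Sieve Cfsg.Agent.H570.Ore.Abs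
open scoped ComplexConjugate

universe u v

variable {L : Type u} [Group L] [Finite L] {B : Type v} [Group B] [Finite B] [IsSimpleGroup B] {π : L →* B} {Z : B}

/-- the local data of a prime in `L` -/
theorem exists_loc (D : Dt B Z) (hs : Function.Surjective π) (hc : π.ker ≤ center L) (h2 : Nat.card π.ker = 2)
    {p : ℕ} [hp : Fact p.Prime] (hp2 : p ≠ 2) {x : B} (hx : orderOf x = p) {k : ℕ}
    (hcx : Nat.card (centralizer ({x} : Set B)) = p * k) (e t : ℕ) (wl : List (ℕ × ℤ)) (c : ℤ) (b : Bool)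
    (hnum : numOK NB p k e t wl c b = true) :
    e * t = p - 1 ∧ ∃ (P : Sylow p L) (M : Subgroup L), Nat.card (P : Subgroup L) = p ∧ IsComp p (P : Subgroup L) M ∧
      Nat.card M = 2 * k ∧
      (centralizer ((P : Subgroup L) : Set L)).relIndex (normalizer ((P : Subgroup L) : Set L)) = e ∧
      (∀ y : L, orderOf y = p → ∃ z ∈ (P : Subgroup L), z ≠ 1 ∧ IsConj y z) ∧
      ∀ y : L, orderOf y = p → Nat.card (centralizer ({π y} : Set B)) = p * k := by
  obtain ⟨P₀, K₀, hK, hP₀, hPx, -, ht, he, hKk⟩ := exists_blk D.nonab D.card hx hcx e t wl c b hnum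
  have hZ : ¬ p ∣ Nat.card π.ker := by
    rw [h2]
    intro h
    exact hp2 ((Nat.prime_dvd_prime_iff_eq hp.out Nat.prime_two).1 h)
  have h4 : ¬ p ^ 2 ∣ Nat.card B := by
    rw [D.card]
    simp only [numOK, Bool.and_eq_true, bne_iff_ne, beq_iff_eq, ne_eq] at hnum
    obtain ⟨⟨⟨⟨⟨⟨-, hN0⟩, hN1⟩, -⟩, -⟩, -⟩, -⟩ := hnum
    exact fun h => hN1 (Nat.mod_eq_zero_of_dvd h)
  have h3 := card_centralizer hK hP₀
  rw [hKk] at h3
  obtain ⟨P, M, hP, hM, hMc, hrel, hmap, hconj⟩ := lift_local hs hc hZ h4 hP₀ he h3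
  refine ⟨ht, P, M, hP, hM, by rw [hMc, h2], hrel, hconj, fun y hy => ?_⟩
  obtain ⟨z, hz, hz1, hyz⟩ := hconj y hy
  have h5 : IsConj (π y) (π z) := π.map_isConj hyz
  have h6 : π z ∈ (P₀ : Subgroup B) := by rw [← hmap]; exact mem_map_of_mem π hz
  have h7 : π z ≠ 1 := by
    intro h
    have h8 : orderOf z = p := order_eq (P := (P : Subgroup L)) hP hz hz1
    exact eq_one_of_ker' hp.out hZ (MonoidHom.mem_ker.2 h) h8
  rw [← Blocks.SylowIn.card_centralizer_of_isConj h5, ← SmallSimple.SelfCentPrime.centralizer_zpowers,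
    zpowers_eq (P := (P₀ : Subgroup B)) hP₀ h6 h7]
  exact h3

variable (D : Dt B Z) (hs : Function.Surjective π) (hc : π.ker ≤ center L) (h2 : Nat.card π.ker = 2)

include D hs hc h2

theorem res47 (χ : IrrCharacter L) : charDegree (χ : L → ℂ) % 47 ∈ [0, 1, 46, 23, 24] := by
  have hF : Fact (Nat.Prime 47) := ⟨by norm_num⟩
  obtain ⟨x, hx, hcx⟩ := D.x47
  obtain ⟨ht, P, M, hP, hM, hMc, he, -, -⟩ := exists_loc D hs hc h2 (p := 47) (by norm_num) hx (k := 1) (by rw [hcx])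
    23 2 [(0, 0), (1, 2), (46, -2), (23, -1), (24, 1)] 2 true (by decide +kernel)
  simp only [List.mem_cons, List.not_mem_nil, or_false]
  rcases res hM hP he ht χ with h | ⟨m, n, hm0, hn0, hme, hnk, h3, h4, h⟩
  · omega
  rw [hMc] at h3 h4
  have hn1 : n = 1 := by
    by_contra h5
    have h6 := h4 (Or.inl h5)
    have h7 : 2 ≤ n := by omega
    nlinarith [Nat.mul_le_mul h7 h7]
  subst hn1
  have hm1 : m = 1 := by
    by_contra h5
    have h6 := h4 (Or.inr h5)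
    omega
  subst hm1
  omega

theorem res23 (χ : IrrCharacter L) : charDegree (χ : L → ℂ) % 23 ∈ [0, 1, 22, 11, 12] := by
  have hF : Fact (Nat.Prime 23) := ⟨by norm_num⟩
  obtain ⟨x, hx, -, hcx⟩ := D.x23
  obtain ⟨ht, P, M, hP, hM, hMc, he, -, -⟩ := exists_loc D hs hc h2 (p := 23) (by norm_num) hx (k := 2) (by rw [hcx])
    11 2 [(0, 0), (1, 2), (22, -2), (11, -1), (12, 1)] 0 false (by decide +kernel)
  simp only [List.mem_cons, List.not_mem_nil, or_false]
  rcases res hM hP he ht χ with h | ⟨m, n, hm0, hn0, hme, hnk, h3, h4, h⟩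
  · omega
  rw [hMc] at h3 h4
  have hn1 : n = 1 := by
    by_contra h5
    have h6 := h4 (Or.inl h5)
    have h7 : 2 ≤ n := by omega
    nlinarith [Nat.mul_le_mul h7 h7]
  subst hn1
  have hm1 : m = 1 := by
    rcases (Nat.dvd_prime (by norm_num : Nat.Prime 11)).1 hme with h5 | h5
    · exact h5
    · omega
  subst hm1
  omega

theorem res19 (χ : IrrCharacter L) : charDegree (χ : L → ℂ) % 19 ∈ [0, 1, 18, 2, 17, 3, 16] := by
  have hF : Fact (Nat.Prime 19) := ⟨by norm_num⟩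
  obtain ⟨x, hx, hcx⟩ := D.x19
  obtain ⟨ht, P, M, hP, hM, hMc, he, -, -⟩ := exists_loc D hs hc h2 (p := 19) (by norm_num) hx (k := 2) (by rw [hcx])
    18 1 [(0, 0), (1, 1), (18, -1)] 0 false (by decide +kernel)
  simp only [List.mem_cons, List.not_mem_nil, or_false]
  rcases res hM hP he ht χ with h | ⟨m, n, hm0, hn0, hme, hnk, h3, h4, h⟩
  · omega
  rw [hMc] at h3 h4
  have hn1 : n = 1 := by
    by_contra h5
    have h6 := h4 (Or.inl h5)
    have h7 : 2 ≤ n := by omega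
    nlinarith [Nat.mul_le_mul h7 h7]
  subst hn1
  have hm1 : m ≤ 3 := by
    by_contra h5
    have h6 := h4 (Or.inr (by omega))
    omega
  interval_cases m <;> omega

/-- **The faithful degrees prime to 31.** -/
theorem deg_faithful (hdiv : ∀ χ : IrrCharacter L, (∃ z ∈ π.ker, (χ : L → ℂ) z ≠ (χ : L → ℂ) 1) →
      2 ^ 11 ∣ charDegree (χ : L → ℂ)) (χ : IrrCharacter L) (hχ : ∃ z ∈ π.ker, (χ : L → ℂ) z ≠ (χ : L → ℂ) 1) :
    (charDegree (χ : L → ℂ) % 31 = 1 ∨ charDegree (χ : L → ℂ) % 31 = 30 →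
      charDegree (χ : L → ℂ) = 96256 ∨ 10506240 ≤ charDegree (χ : L → ℂ)) ∧
      (charDegree (χ : L → ℂ) % 31 = 15 ∨ charDegree (χ : L → ℂ) % 31 = 16 → 4427776 ≤ charDegree (χ : L → ℂ)) := by
  refine Num.num ?_ (hdiv χ hχ) (res47 D hs hc h2 χ) (res23 D hs hc h2 χ) (res19 D hs hc h2 χ)
  have h1 := H511.Ore.charDegree_dvd χ
  rw [card_eq_mul hs, h2, D.card] at h1
  exact h1

end Cfsg.Agent.H113.QS.TwoB
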