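import Cfsg.Agent.H113.QS.DatZ
import Cfsg.Agent.H606.OreM.Block
import Cfsg.Agent.H653.Sieve.Prime
import Cfsg.Agent.Characters.GaloisBasic

/-!
# The local data of a prime in a central extension (helper113, row 2.B of S2491, S2492)

* `lift_local` : a Sylow subgroup of order `p` of `K` with its centralizer and normalizer lifts to `L`;
* `int_value` : all nontrivial elements of `⟨y⟩` conjugate: `χ y` is an integer congruent to `χ(1)` modulo `p`.
-/

set_option autoImplicit false
set_option linter.unusedSectionVars false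

namespace Cfsg.Agent.H113.QS.TwoB

open Cfsg Cfsg.Agent.Characters Subgroup Cfsg.Agent.H65.Ore Cfsg.Agent.H113.QS
open Cfsg.Agent.SmallSimple.ThetaSetup Cfsg.Agent.SmallSimple.ThetaOrtho
open scoped ComplexConjugate

universe u v

variable {L : Type u} [Group L] [Finite L] {K : Type v} [Group K] [Finite K] {π : L →* K}

/-- **The local data lift.** -/
theorem lift_local (hs : Function.Surjective π) (hc : π.ker ≤ center L) {p : ℕ} [hpF : Fact p.Prime]
    (hZ : ¬ p ∣ Nat.card π.ker) (h2 : ¬ p ^ 2 ∣ Nat.card K) {P₀ : Sylow p K} (hP0' : Nat.card (P₀ : Subgroup K) = p)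
    {e k : ℕ} (hrel : (centralizer ((P₀ : Subgroup K) : Set K)).relIndex (normalizer ((P₀ : Subgroup K) : Set K)) = e)
    (hcard : Nat.card (centralizer ((P₀ : Subgroup K) : Set K)) = p * k) :
    ∃ (P : Sylow p L) (M : Subgroup L), Nat.card (P : Subgroup L) = p ∧ IsComp p (P : Subgroup L) M ∧
      Nat.card M = Nat.card π.ker * k ∧
      (centralizer ((P : Subgroup L) : Set L)).relIndex (normalizer ((P : Subgroup L) : Set L)) = e ∧
      (P : Subgroup L).map π = (P₀ : Subgroup K) ∧
      ∀ y : L, orderOf y = p → ∃ z ∈ (P : Subgroup L), z ≠ 1 ∧ IsConj y z := by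
  classical
  have hp := hpF.out
  obtain ⟨x₁, hx₁, hx1⟩ := exists_ne_one (P := (P₀ : Subgroup K)) hP0'
  have ho₁ : orderOf x₁ = p := order_eq (P := (P₀ : Subgroup K)) hP0' hx₁ hx1
  obtain ⟨x, hxo, hxπ⟩ := exists_lift hs hp hZ ho₁
  have hPz : (P₀ : Subgroup K) = zpowers x₁ := by
    symm
    apply Subgroup.eq_of_le_of_card_ge
    · rw [zpowers_le]; exact hx₁
    · rw [Nat.card_zpowers, ho₁]
      exact hP0'.le
  have hcL : ¬ p ^ 2 ∣ Nat.card L := by
    intro h
    rw [card_eq_mul hs] at h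
    exact h2 ((Nat.Coprime.pow_left 2 ((hp.coprime_iff_not_dvd).2 hZ)).dvd_of_dvd_mul_left h)
  have hpL : p ∣ Nat.card L := by rw [← hxo]; exact orderOf_dvd_natCard x
  have hpg : IsPGroup p (zpowers x) := IsPGroup.of_card (n := 1) (by rw [Nat.card_zpowers, hxo, pow_one])
  obtain ⟨P, hxP⟩ := hpg.exists_le_sylow
  have hP : Nat.card (P : Subgroup L) = p := SmallSimple.PrimeLocal.card_of_not_sq_dvd hpL hcL P
  have hPx : (P : Subgroup L) = zpowers x := by
    symm
    apply Subgroup.eq_of_le_of_card_ge hxP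
    rw [Nat.card_zpowers, hxo]
    exact hP.le
  have hmap : (P : Subgroup L).map π = (P₀ : Subgroup K) := by
    rw [hPx, hPz, MonoidHom.map_zpowers, hxπ]
  have hup : ∀ v ∈ (P : Subgroup L), v ^ p = 1 := by
    intro v hv
    have h5 : (⟨v, hv⟩ : (P : Subgroup L)) ^ Nat.card (P : Subgroup L) = 1 := pow_card_eq_one'
    rw [hP] at h5
    exact congrArg Subtype.val h5
  -- the key
  have key : ∀ y u w : L, u ∈ (P : Subgroup L) → w ∈ (P : Subgroup L) → π w = π (y * u * y⁻¹) → y * u * y⁻¹ = w := by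
    intro y u w hu hw hwy
    have h4 : w⁻¹ * (y * u * y⁻¹) ∈ π.ker := by
      rw [MonoidHom.mem_ker, map_mul, map_inv, hwy, inv_mul_cancel]
    have h5 : w⁻¹ * (y * u * y⁻¹) = 1 := by
      apply eq_one_of_ker hp hZ h4
      have h6 : Commute w (w⁻¹ * (y * u * y⁻¹)) := mem_center_iff.1 (hc h4) w
      have h7 : (w * (w⁻¹ * (y * u * y⁻¹))) ^ p = 1 := by
        have h8 : w * (w⁻¹ * (y * u * y⁻¹)) = y * u * y⁻¹ := by group
        rw [h8, conj_pow, hup u hu, mul_one, mul_inv_cancel]
      rw [h6.mul_pow, hup w hw, _root_.one_mul] at h7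
      exact h7
    exact (inv_mul_eq_one.1 h5).symm
  have hcent : centralizer ((P : Subgroup L) : Set L) = (centralizer ((P₀ : Subgroup K) : Set K)).comap π := by
    apply le_antisymm
    · intro y hy
      rw [mem_comap, mem_centralizer_iff]
      intro k hk
      have hk' : k ∈ (P : Subgroup L).map π := by rw [hmap]; exact hk
      obtain ⟨u, hu, rfl⟩ := hk'
      rw [← map_mul, ← map_mul, mem_centralizer_iff.1 hy u hu]
    · intro y hy
      rw [mem_comap] at hy
      rw [mem_centralizer_iff]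
      intro u hu
      have h1 : π u ∈ (P₀ : Subgroup K) := by rw [← hmap]; exact mem_map_of_mem π hu
      have h3 := mem_centralizer_iff.1 hy (π u) h1
      have h4 := key y u u hu hu (by rw [map_mul, map_mul, map_inv, ← h3, mul_assoc, mul_inv_cancel, mul_one])
      calc u * y = y * u * y⁻¹ * y := by rw [h4]
        _ = y * u := by group
  have hnorm : normalizer ((P : Subgroup L) : Set L) = (normalizer ((P₀ : Subgroup K) : Set K)).comap π := by
    apply le_antisymm
    · intro y hy
      rw [mem_comap]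
      apply Subgroup.mem_normalizer_fintype
      intro k hk
      have hk' : k ∈ (P : Subgroup L).map π := by rw [hmap]; exact hk
      obtain ⟨u, hu, rfl⟩ := hk'
      have h1 := (Subgroup.mem_normalizer_iff.1 hy u).1 hu
      have h2 : π (y * u * y⁻¹) ∈ (P : Subgroup L).map π := mem_map_of_mem π h1
      rw [hmap, map_mul, map_mul, map_inv] at h2
      exact h2
    · intro y hy
      rw [mem_comap] at hy
      apply Subgroup.mem_normalizer_fintype
      intro u hu
      have h1 : π u ∈ (P₀ : Subgroup K) := by rw [← hmap]; exact mem_map_of_mem π hu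
      have h2 := (Subgroup.mem_normalizer_iff.1 hy (π u)).1 h1
      have h3 : π (y * u * y⁻¹) ∈ (P : Subgroup L).map π := by
        rw [hmap, map_mul, map_mul, map_inv]; exact h2
      obtain ⟨w, hw, hwy⟩ := h3
      show y * u * y⁻¹ ∈ (P : Subgroup L)
      rw [key y u w hu hw hwy]
      exact hw
  have hrel' : (centralizer ((P : Subgroup L) : Set L)).relIndex (normalizer ((P : Subgroup L) : Set L)) = e := by
    rw [hcent, hnorm, Subgroup.relIndex_comap, Subgroup.map_comap_eq_self_of_surjective hs]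
    exact hrel
  obtain ⟨M, hM⟩ := exists_isComp P hP
  refine ⟨P, M, hP, hM, ?_, hrel', hmap, ?_⟩
  · have h3 := card_centralizer hM hP
    have h4 : Nat.card (centralizer ((P : Subgroup L) : Set L)) = Nat.card π.ker * (p * k) := by
      rw [hcent, ← hcard]
      have h5 := (π.subgroupComap (centralizer ((P₀ : Subgroup K) : Set K))).ker.card_mul_index
      rw [Subgroup.index_ker] at h5
      have hsur : Function.Surjective (π.subgroupComap (centralizer ((P₀ : Subgroup K) : Set K))) := by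
        rintro ⟨y, hy⟩
        obtain ⟨w, rfl⟩ := hs y
        exact ⟨⟨w, hy⟩, rfl⟩
      have h6 : Nat.card (π.subgroupComap (centralizer ((P₀ : Subgroup K) : Set K))).range =
          Nat.card (centralizer ((P₀ : Subgroup K) : Set K)) := by
        rw [MonoidHom.range_eq_top.2 hsur]
        exact Nat.card_congr Subgroup.topEquiv.toEquiv
      have h7 : Nat.card (π.subgroupComap (centralizer ((P₀ : Subgroup K) : Set K))).ker = Nat.card π.ker := by
        refine Nat.card_congr ⟨fun y => ⟨y.1.1, congrArg Subtype.val y.2⟩, fun y => ⟨⟨y.1, ?_⟩, Subtype.ext y.2⟩,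
          fun _ => rfl, fun _ => rfl⟩
        rw [mem_comap, show π (y : L) = 1 from y.2]
        exact one_mem _
      rw [← h5, h6, h7]
    rw [h4] at h3
    have h5 : p * (Nat.card π.ker * k) = p * Nat.card M := by
      rw [← h3]; ring
    exact (Nat.eq_of_mul_eq_mul_left hp.pos h5).symm
  · intro y hy
    have hpg' : IsPGroup p (zpowers y) := IsPGroup.of_card (n := 1) (by rw [Nat.card_zpowers, hy, pow_one])
    obtain ⟨Q, hyQ⟩ := hpg'.exists_le_sylow
    obtain ⟨g, hg⟩ := MulAction.exists_smul_eq L Q P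
    refine ⟨g * y * g⁻¹, ?_, ?_, isConj_iff.2 ⟨g, rfl⟩⟩
    · rw [← hg]
      have := Subgroup.smul_mem_pointwise_smul y (MulAut.conj g) (Q : Subgroup L) (hyQ (mem_zpowers y))
      exact this
    · intro h
      have h3 : y = 1 := by
        have : g⁻¹ * (g * y * g⁻¹) * g = y := by group
        rw [h] at this
        rw [← this]; group
      rw [h3, orderOf_one] at hy
      exact hp.one_lt.ne hy

/-- all nontrivial elements of `P` are conjugate -/
theorem all_conj {p : ℕ} [hpF : Fact p.Prime] {P : Subgroup L} (hP : Nat.card P = p)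
    (he : (centralizer (P : Set L)).relIndex (normalizer (P : Set L)) = p - 1) {x : L} (hx : x ∈ P) (hx1 : x ≠ 1)
    {y : L} (hy : y ∈ P) (hy1 : y ≠ 1) : IsConj x y := by
  obtain ⟨hn, -⟩ := norm_facts (P := P) hP hx hx1 he
  obtain ⟨k, rfl⟩ := exists_pow_eq hP hx hx1 hy
  have hk : k ≠ 0 := by
    rintro rfl
    apply hy1
    simp
  obtain ⟨n, hn⟩ := hn k (by rw [mem_HH]; exact ZMod.pow_card_sub_one_eq_one hk)
  exact isConj_iff.2 ⟨n, hn⟩

/-- **A rational value.** -/
theorem int_value {p : ℕ} [hpF : Fact p.Prime] {P : Subgroup L} (hP : Nat.card P = p)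
    (he : (centralizer (P : Set L)).relIndex (normalizer (P : Set L)) = p - 1) (χ : IrrCharacter L) {x : L}
    (hx : x ∈ P) (hx1 : x ≠ 1) : ∃ a : ℤ, (χ : L → ℂ) x = a ∧ (p : ℤ) ∣ (charDegree (χ : L → ℂ) : ℤ) - a := by
  classical
  have := Fintype.ofFinite P
  have hp := hpF.out
  have hp1 := hp.one_lt
  obtain ⟨m, hm⟩ := SmallSimple.TheoremBCor.exists_sum_eq (Core.isIrr_isCharacter χ.2) P
  have h1 := SmallSimple.TheoremBCor.sum_const_off (Q := P) (f := fun y => (χ : L → ℂ) y) (c := (χ : L → ℂ) x)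
    (fun y hy => by
      have h2 := all_conj hP he hx hx1 y.2 (fun h => hy (Subtype.ext h))
      obtain ⟨n, hn⟩ := isConj_iff.1 h2
      rw [← hn, Core.isIrr_isClassFunction χ.2 x n])
  rw [hm, hP, Subgroup.coe_one, cast_deg] at h1
  have hp0 : ((p : ℂ) - 1) ≠ 0 := by
    rw [sub_ne_zero]
    exact_mod_cast hp1.ne'
  have h2 : (χ : L → ℂ) x = (((m * p - charDegree (χ : L → ℂ)) / (p - 1) : ℚ) : ℂ) := by
    push_cast
    rw [eq_div_iff hp0]
    linear_combination -h1
  obtain ⟨a, ha⟩ := GaloisBasic.exists_int_of_rat (Core.isIrr_isCharacter χ.2) x ⟨_, h2⟩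
  refine ⟨a, ha, ?_⟩
  rw [ha] at h1
  have h3 : ((m * p : ℤ)) = (charDegree (χ : L → ℂ) : ℤ) + (p - 1) * a := by
    have h4 : ((m * p : ℤ) : ℂ) = (((charDegree (χ : L → ℂ) : ℤ) + (p - 1) * a : ℤ) : ℂ) := by
      push_cast
      linear_combination h1
    exact_mod_cast h4
  exact ⟨m - a, by linear_combination -h3⟩

open Cfsg.Agent.H653.Sieve in
/-- **The residues of the degrees.** -/
theorem res {p : ℕ} [hpF : Fact p.Prime] {P : Sylow p L} {M : Subgroup L} (hM : IsComp p (P : Subgroup L) M)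
    (hP : Nat.card (P : Subgroup L) = p) {e t : ℕ}
    (he : (centralizer ((P : Subgroup L) : Set L)).relIndex (normalizer ((P : Subgroup L) : Set L)) = e)
    (ht : e * t = p - 1) (χ : IrrCharacter L) : (p : ℤ) ∣ (charDegree (χ : L → ℂ) : ℤ) ∨ ∃ m n : ℕ, 0 < m ∧ 0 < n ∧
      m ∣ e ∧ n ∣ Nat.card M ∧ m * (n * n) ≤ Nat.card M ∧ (n ≠ 1 ∨ m ≠ 1 → m * (n * n) + 1 ≤ Nat.card M) ∧
      ((p : ℤ) ∣ (charDegree (χ : L → ℂ) : ℤ) - m * n ∨ (p : ℤ) ∣ (charDegree (χ : L → ℂ) : ℤ) + m * n ∨
        (p : ℤ) ∣ (charDegree (χ : L → ℂ) : ℤ) - e * n ∨ (p : ℤ) ∣ (charDegree (χ : L → ℂ) : ℤ) + e * n) := by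
  classical
  by_cases hχ : p ∣ charDegree (χ : L → ℂ)
  · left; exact_mod_cast hχ
  right
  have := Core.finite_irr (G := L)
  have := Fintype.ofFinite (IrrCharacter L)
  obtain ⟨θ, m, n, hm, hn, hm0, hn0, hme, hnk, hres, -⟩ := H606.OreM.Block.exists_theta hM hP he ht χ hχ
  have hsq := orb_sq_le hM θ.2
  have hdeg : charDegree (θ : M → ℂ) = n := by
    unfold charDegree
    rw [hn]; simp
  rw [hdeg, ← hm] at hsq
  exact ⟨m, n, hm0, hn0, hme, hnk, hsq.1, hsq.2, hres⟩

end Cfsg.Agent.H113.QS.TwoB
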