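import Cfsg.Agent.H113.QS.TwoB.Bound

/-!
# Commutators in a perfect central extension `2.B` (helper113, piece P1 of row 2.B of S2491, S2492)

`isC_of_le` : `D` the local data of `B`, `π : L →* B` onto with central kernel of order two, all degrees of faithful
characters divisible by `2^11`: every `g` with `|C_B(π g)| ≤ 1500000000` is a commutator.
-/

set_option autoImplicit false
set_option linter.unusedSectionVars false

namespace Cfsg.Agent.H113.QS.TwoB

open Cfsg Cfsg.Agent.Characters Subgroup Cfsg.Agent.H65.Ore Cfsg.Agent.H113.QS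
open Cfsg.Agent.SmallSimple.ThetaSetup Cfsg.Agent.SmallSimple.ThetaOrtho
open Cfsg.Agent.H653.Sieve Cfsg.Agent.H570.Ore.Abs Cfsg.Agent.H570.Ore.Num
open scoped ComplexConjugate

universe u v

variable {L : Type u} [Group L] [Finite L] {B : Type v} [Group B] [Finite B] [IsSimpleGroup B] {π : L →* B} {Z : B}

/-- residues modulo 31 of the degrees of the group with the local data -/
theorem res31B (D : Dt B Z) (χ : IrrCharacter B) : charDegree (χ : B → ℂ) % 31 ∈ [0, 1, 30, 15, 16] := by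
  have hF : Fact (Nat.Prime 31) := ⟨by norm_num⟩
  obtain ⟨x, hx, hcx⟩ := D.x31
  obtain ⟨P, M, hM, hP, -, -, ht, he, hMc⟩ := exists_blk D.nonab D.card hx (k := 1) (by rw [hcx])
    15 2 [(0, 0), (1, 2), (30, -2), (15, -1), (16, 1)] 2 true (by decide +kernel)
  simp only [List.mem_cons, List.not_mem_nil, or_false]
  rcases res hM hP he ht χ with h | ⟨m, n, hm0, hn0, hme, hnk, h3, h4, h⟩
  · omega
  rw [hMc] at h3 h4
  have hn1 : n = 1 := by
    by_contra h5
    have h6 := h4 (Or.inl h5)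
    have h7 : 2 ≤ n := by omega
    nlinarith [Nat.mul_le_mul h7 h7]
  subst hn1
  have hm1 : m = 1 := by omega
  subst hm1
  omega

/-- residues modulo 31 of the degrees of the cover -/
theorem res31L (D : Dt B Z) (hs : Function.Surjective π) (hc : π.ker ≤ center L) (h2 : Nat.card π.ker = 2)
    (χ : IrrCharacter L) : charDegree (χ : L → ℂ) % 31 ∈ [0, 1, 30, 15, 16] := by
  have hF : Fact (Nat.Prime 31) := ⟨by norm_num⟩
  obtain ⟨x, hx, hcx⟩ := D.x31
  obtain ⟨ht, P, M, hP, hM, hMc, he, -, -⟩ := exists_loc D hs hc h2 (p := 31) (by norm_num) hx (k := 1) (by rw [hcx])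
    15 2 [(0, 0), (1, 2), (30, -2), (15, -1), (16, 1)] 2 true (by decide +kernel)
  simp only [List.mem_cons, List.not_mem_nil, or_false]
  rcases res hM hP he ht χ with h | ⟨m, n, hm0, hn0, hme, hnk, h3, h4, h⟩
  · omega
  rw [hMc] at h3 h4
  have hn1 : n = 1 := by
    by_contra h5
    have h6 := h4 (Or.inl h5)
    have h7 : 2 ≤ n := by omega
    nlinarith [Nat.mul_le_mul h7 h7]
  subst hn1
  have hm1 : m = 1 := by
    by_contra h5
    have h6 := h4 (Or.inr h5)
    omega
  subst hm1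
  omega

/-- **Small centralizers.** -/
theorem small (D : Dt B Z) (hs : Function.Surjective π) (hc : π.ker ≤ center L) (h2 : Nat.card π.ker = 2)
    (hdiv : ∀ χ : IrrCharacter L, (∃ z ∈ π.ker, (χ : L → ℂ) z ≠ (χ : L → ℂ) 1) → 2 ^ 11 ∣ charDegree (χ : L → ℂ))
    {g : L} (hg : Nat.card (centralizer ({π g} : Set B)) ≤ 68) : ∃ a b : L, g = a * b * a⁻¹ * b⁻¹ := by
  classical
  obtain ⟨x31, hx31, hc31⟩ := D.x31
  obtain ⟨hSZ, x, hx, -⟩ := SZ.lift D.nonab hs hc (by norm_num : Nat.Prime 31) D.card hx31 hc31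
    (by rw [h2]; norm_num) 15 2 143 (by decide +kernel)
  have hxi : orderOf x⁻¹ = 31 := by rw [orderOf_inv, hx]
  refine Prd.comm (SZ.prd_two hSZ hs hc hx hxi (m := 2) (d₁ := 364344) (d₂ := 96256) (c := 68) 98 99 h2.le ?_ ?_ hg
    (by norm_num))
  · intro ψ hψ h31
    have h3 := res31B D ψ
    have h4 := deg D ψ hψ
    simp only [List.mem_cons, List.not_mem_nil, or_false] at h3
    rcases h3 with h3 | h3 | h3 | h3 | h3
    · exact absurd (Nat.dvd_of_mod_eq_zero h3) h31
    · exact h4.1 (r2_spec.1 (Or.inl h3))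
    · exact h4.1 (r2_spec.1 (Or.inr h3))
    · exact (by norm_num : 364344 ≤ 2337075).trans (h4.2 (r2_spec.1 (Or.inl h3)))
    · exact (by norm_num : 364344 ≤ 2337075).trans (h4.2 (r2_spec.1 (Or.inr h3)))
  · intro χ hχ h31
    have h3 := res31L D hs hc h2 χ
    have h4 := deg_faithful D hs hc h2 hdiv χ hχ
    simp only [List.mem_cons, List.not_mem_nil, or_false] at h3
    rcases h3 with h3 | h3 | h3 | h3 | h3
    · exact absurd (Nat.dvd_of_mod_eq_zero h3) h31
    · rcases h4.1 (Or.inl h3) with h5 | h5 <;> omega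
    · rcases h4.1 (Or.inr h3) with h5 | h5 <;> omega
    · exact (by norm_num : 96256 ≤ 4427776).trans (h4.2 (Or.inl h3))
    · exact (by norm_num : 96256 ≤ 4427776).trans (h4.2 (Or.inr h3))

/-- a lift of order prime to 31 -/
theorem not_dvd_order (D : Dt B Z) (hs : Function.Surjective π) (hc : π.ker ≤ center L) (h2 : Nat.card π.ker = 2)
    {g : L} (hg : 68 < Nat.card (centralizer ({π g} : Set B))) : ¬ 31 ∣ orderOf g := by
  intro h31
  have hp : Nat.Prime 31 := by norm_num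
  have hF : Fact (Nat.Prime 31) := ⟨hp⟩
  obtain ⟨x31, hx31, hc31⟩ := D.x31
  obtain ⟨-, P, M, -, -, -, -, -, hcent⟩ := exists_loc D hs hc h2 (p := 31) (by norm_num) hx31 (k := 1) (by rw [hc31])
    15 2 [(0, 0), (1, 2), (30, -2), (15, -1), (16, 1)] 2 true (by decide +kernel)
  have h0 : orderOf g ≠ 0 := (orderOf_pos g).ne'
  have ho : orderOf (g ^ (orderOf g / 31)) = 31 := orderOf_pow_orderOf_div h0 h31
  have h3 := hcent _ ho
  have h4 : centralizer ({π g} : Set B) ≤ centralizer ({π (g ^ (orderOf g / 31))} : Set B) := by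
    intro a ha
    rw [mem_centralizer_singleton_iff] at ha ⊢
    rw [map_pow]
    exact ((show Commute a (π g) from ha).pow_right _).eq
  have h5 := Nat.le_of_dvd Nat.card_pos (Subgroup.card_dvd_of_le h4)
  omega

/-- the value at `x` and `x⁻¹` of a character of degree 96256 -/
theorem val_one {θ : IrrCharacter π.ker} {NE X : Finset (IrrCharacter L)} (h : DatZ L π.ker 31 15 2 θ NE X)
    {χ : IrrCharacter L} (hχ : χ ∈ NE) (hd : charDegree (χ : L → ℂ) = 96256) {x : L} (hx : orderOf x = 31) :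
    (χ : L → ℂ) x = 1 := by
  rcases h.ne_sign χ hχ x hx with h1 | h1
  · exact h1.1
  · rw [hd] at h1
    exact absurd h1.2 (by norm_num)

/-- **The sum over a nontrivial central character.** -/
theorem faithful_le (D : Dt B Z) (hs : Function.Surjective π) (hc : π.ker ≤ center L) (h2 : Nat.card π.ker = 2)
    (hdiv : ∀ χ : IrrCharacter L, (∃ z ∈ π.ker, (χ : L → ℂ) z ≠ (χ : L → ℂ) 1) → 2 ^ 11 ∣ charDegree (χ : L → ℂ))
    [DecidableEq (IrrCharacter L)] [Fintype (IrrCharacter L)] {θ : IrrCharacter π.ker} (hθ : θ ≠ one1 π.ker)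
    {NE X : Finset (IrrCharacter L)} (h : DatZ L π.ker 31 15 2 θ NE X) {x y g : L} (hx : orderOf x = 31)
    (hy : orderOf y = 31) (hx' : Nat.card (centralizer ({π x} : Set B)) = 31)
    (hg : 68 < Nat.card (centralizer ({π g} : Set B))) (hg' : Nat.card (centralizer ({π g} : Set B)) ≤ 1500000000) :
    ‖∑ χ ∈ NE ∪ X, (χ : L → ℂ) x * (χ : L → ℂ) y * conj ((χ : L → ℂ) g) / (χ : L → ℂ) 1‖ ≤ 0.45403 + 0.1 := by
  classical
  have hp : Nat.Prime 31 := by norm_num
  have hgo := not_dvd_order D hs hc h2 hg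
  have hgR : (Nat.card (centralizer ({π g} : Set B)) : ℝ) ≤ 1500000000 := by exact_mod_cast hg'
  obtain ⟨F, hF⟩ : ∃ F : Finset (IrrCharacter L), F = NE.filter (fun χ : IrrCharacter L =>
    charDegree (χ : L → ℂ) = 96256) := ⟨_, rfl⟩
  obtain ⟨N, hN⟩ : ∃ N : Finset (IrrCharacter L), N = NE \ F := ⟨_, rfl⟩
  have hFNE : F ⊆ NE := by rw [hF]; exact Finset.filter_subset _ _
  have hNNE : N ⊆ NE := by rw [hN]; exact Finset.sdiff_subset
  have hFd : ∀ χ ∈ F, charDegree (χ : L → ℂ) = 96256 := fun χ hχ => by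
    rw [hF, Finset.mem_filter] at hχ
    exact hχ.2
  have hlies : ∀ χ ∈ NE ∪ X, χ ∈ ov π.ker (θ : π.ker → ℂ) := fun χ hχ =>
    mem_ov.2 (h.lies χ (Finset.mem_union.1 hχ))
  have hun : NE ∪ X = F ∪ (N ∪ X) := by
    rw [← Finset.union_assoc, hN, Finset.union_sdiff_of_subset hFNE]
  have hdis : Disjoint F (N ∪ X) := by
    rw [Finset.disjoint_union_right]
    refine ⟨?_, h.disj.mono_left hFNE⟩
    rw [hN]
    exact Finset.disjoint_sdiff
  rw [hun, Finset.sum_union hdis]
  refine (norm_add_le _ _).trans (add_le_add ?_ ?_)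
  · have e1 : ∑ χ ∈ F, (χ : L → ℂ) x * (χ : L → ℂ) y * conj ((χ : L → ℂ) g) / (χ : L → ℂ) 1 =
        conj (∑ χ ∈ F, (χ : L → ℂ) g) / 96256 := by
      rw [map_sum, Finset.sum_div]
      refine Finset.sum_congr rfl fun χ hχ => ?_
      rw [val_one h (hFNE hχ) (hFd χ hχ) hx, val_one h (hFNE hχ) (hFd χ hχ) hy, cast_deg, hFd χ hχ]
      push_cast
      ring
    have e2 := theta_F D hs hc h2 (θ := θ) hx' hg (F := F)
      (fun χ hχ => hlies χ (Finset.mem_union_left _ (hFNE hχ))) (fun χ hχ => val_one h (hFNE hχ) (hFd χ hχ) hx) hFd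
    rw [e1, norm_div, Complex.norm_conj]
    have e3 : ‖(96256 : ℂ)‖ = 96256 := by norm_num
    rw [e3, div_le_iff₀ (by norm_num)]
    have e4 : ‖∑ χ ∈ F, (χ : L → ℂ) g‖ ^ 2 ≤ (43703 : ℝ) ^ 2 := by
      have e5 := e2.trans hgR
      norm_num at e5 ⊢
      linarith
    have e6 := abs_le_of_sq_le_sq' e4 (by norm_num)
    exact e6.2.trans (by norm_num)
  · have b3 := h.block hp hx hy hgo hNNE (DN := 10506240) (DX := 4427776) (c := 1500000000)
      (by norm_num) (by norm_num) (fun χ hχ => ?_) (fun χ hχ => ?_) ?_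
    · refine b3.trans (Real.sqrt_le_iff.2 ⟨by norm_num, ?_⟩)
      have h3 : (N.card : ℝ) ≤ 15 := by
        have h4 := Finset.card_le_card hNNE
        rw [h.cardNE] at h4
        exact_mod_cast h4
      norm_num
      nlinarith
    · have h3 := h.ne_deg χ (hNNE hχ)
      have h4 := (deg_faithful D hs hc h2 hdiv χ (exists_ne_of_lies hθ (h.lies χ (Or.inl (hNNE hχ))))).1 h3
      rcases h4 with h4 | h4
      · exfalso
        rw [hN, Finset.mem_sdiff, hF, Finset.mem_filter] at hχ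
        exact hχ.2 ⟨hχ.1, h4⟩
      · exact_mod_cast h4
    · have h3 := h.x_deg χ hχ
      have h4 := (deg_faithful D hs hc h2 hdiv χ (exists_ne_of_lies hθ (h.lies χ (Or.inr hχ)))).2 h3
      exact_mod_cast h4
    · refine le_trans (Finset.sum_le_sum_of_subset_of_nonneg (t := ov π.ker (θ : π.ker → ℂ)) (fun χ hχ => hlies χ ?_)
        (f := fun χ : IrrCharacter L => ‖(χ : L → ℂ) g‖ ^ 2) fun _ _ _ => by positivity)
        ((sum_lies_sq_le hs hc θ g).trans hgR)
      rw [hun]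
      exact Finset.mem_union_right _ hχ

/-- **The sum over the trivial central character.** -/
theorem base_le (D : Dt B Z) (hs : Function.Surjective π) (hc : π.ker ≤ center L) (h2 : Nat.card π.ker = 2)
    [DecidableEq (IrrCharacter L)] [Fintype (IrrCharacter L)]
    {NE X : Finset (IrrCharacter L)} (h : DatZ L π.ker 31 15 2 (one1 π.ker) NE X) {x y g : L} (hx : orderOf x = 31)
    (hy : orderOf y = 31)
    (hg : 68 < Nat.card (centralizer ({π g} : Set B))) (hg' : Nat.card (centralizer ({π g} : Set B)) ≤ 1500000000) :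
    ‖∑ χ ∈ NE.erase (one1 L) ∪ X, (χ : L → ℂ) x * (χ : L → ℂ) y * conj ((χ : L → ℂ) g) / (χ : L → ℂ) 1‖ ≤ 0.4398 := by
  classical
  have hp : Nat.Prime 31 := by norm_num
  have hgo := not_dvd_order D hs hc h2 hg
  have hgR : (Nat.card (centralizer ({π g} : Set B)) : ℝ) ≤ 1500000000 := by exact_mod_cast hg'
  have hone := h.one_mem hx (by norm_num) (by norm_num)
  have hX1 : one1 L ∉ X := Finset.disjoint_left.1 h.disj hone
  have b1 := h.block hp hx hy hgo (Finset.erase_subset (one1 L) _) (DN := 364344) (DX := 2337075) (c := 1500000000)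
    (by norm_num) (by norm_num) (fun χ hχ => ?_) (fun χ hχ => ?_) ?_
  · refine b1.trans (Real.sqrt_le_iff.2 ⟨by norm_num, ?_⟩)
    rw [Finset.card_erase_of_mem hone, h.cardNE]
    norm_num
  · obtain ⟨ψ, hψ⟩ := deg_base hs χ (h.lies χ (Or.inl (Finset.mem_of_mem_erase hχ)))
    have h5 : charDegree (χ : L → ℂ) = charDegree (ψ : B → ℂ) := by
      unfold charDegree
      rw [hψ]
      simp
    have h6 := h.ne_deg χ (Finset.mem_of_mem_erase hχ)
    rw [h5] at h6 ⊢
    have h7 := (deg D ψ (fun h7 => coe_ne_one (Finset.ne_of_mem_erase hχ) (by rw [hψ, h7]; rfl))).1 (r2_spec.1 h6)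
    exact_mod_cast h7
  · obtain ⟨ψ, hψ⟩ := deg_base hs χ (h.lies χ (Or.inr hχ))
    have h5 : charDegree (χ : L → ℂ) = charDegree (ψ : B → ℂ) := by
      unfold charDegree
      rw [hψ]
      simp
    have h6 := h.x_deg χ hχ
    rw [h5] at h6 ⊢
    have h7 := (deg D ψ (fun h7 => hX1 (by
      have h8 : χ = one1 L := Subtype.ext (by rw [hψ, h7]; rfl)
      rwa [h8] at hχ))).2 (r2_spec.1 h6)
    exact_mod_cast h7
  · refine le_trans (Finset.sum_le_sum_of_subset_of_nonneg (t := ov π.ker (one1 π.ker : π.ker → ℂ)) (fun χ hχ =>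
      mem_ov.2 (h.lies χ ?_)) (f := fun χ : IrrCharacter L => ‖(χ : L → ℂ) g‖ ^ 2) fun _ _ _ => by positivity)
      ((sum_lies_sq_le hs hc (one1 π.ker) g).trans hgR)
    rcases Finset.mem_union.1 hχ with h5 | h5
    · exact Or.inl (Finset.mem_of_mem_erase h5)
    · exact Or.inr h5

/-- **The commutators of a cover `2.B`.** -/
theorem isC_of_le (D : Dt B Z) (hs : Function.Surjective π) (hc : π.ker ≤ center L) (h2 : Nat.card π.ker = 2)
    (hdiv : ∀ χ : IrrCharacter L, (∃ z ∈ π.ker, (χ : L → ℂ) z ≠ (χ : L → ℂ) 1) → 2 ^ 11 ∣ charDegree (χ : L → ℂ))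
    {g : L} (hg' : Nat.card (centralizer ({π g} : Set B)) ≤ 1500000000) : ∃ a b : L, g = a * b * a⁻¹ * b⁻¹ := by
  classical
  rcases Nat.lt_or_ge 68 (Nat.card (centralizer ({π g} : Set B))) with hg | hg
  swap
  · exact small D hs hc h2 hdiv hg
  have hp : Nat.Prime 31 := by norm_num
  have hF : Fact (Nat.Prime 31) := ⟨hp⟩
  have hfinL : Finite (IrrCharacter L) := Core.finite_irr
  have := Fintype.ofFinite (IrrCharacter L)
  have hfinZ : Finite (IrrCharacter π.ker) := Core.finite_irr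
  have := Fintype.ofFinite (IrrCharacter π.ker)
  obtain ⟨x31, hx31, hc31⟩ := D.x31
  have hZ : ¬ 31 ∣ Nat.card π.ker := by rw [h2]; norm_num
  have hchk : chkSC NB 31 15 2 143 = true := by decide +kernel
  choose NE X hD using exists_datZ D.nonab hs hc hp D.card hx31 hc31 hZ 15 2 143 hchk
  obtain ⟨x, hx, hxπ⟩ := exists_lift hs hp hZ hx31
  have hx' : Nat.card (centralizer ({π x} : Set B)) = 31 := by rw [hxπ, hc31]
  have hy : orderOf x⁻¹ = 31 := by rw [orderOf_inv, hx]
  set F : IrrCharacter L → ℂ := fun χ =>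
    (χ : L → ℂ) x * (χ : L → ℂ) x⁻¹ * conj ((χ : L → ℂ) g) / (χ : L → ℂ) 1 with hFdef
  have hblock : ∀ θ : IrrCharacter π.ker, ∑ χ ∈ ov π.ker (θ : π.ker → ℂ), F χ = ∑ χ ∈ NE θ ∪ X θ, F χ := by
    intro θ
    symm
    refine Finset.sum_subset (fun χ hχ => mem_ov.2 ((hD θ).lies χ (Finset.mem_union.1 hχ))) fun χ h5 h6 => ?_
    rw [Finset.mem_union, not_or] at h6
    rw [hFdef]
    simp only
    rw [(hD θ).off χ (mem_ov.1 h5) h6.1 h6.2 x hx]
    simp
  have hone := (hD (one1 π.ker)).one_mem hx (by norm_num) (by norm_num)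
  refine Prd.comm (x := x) (prd_of_ne_zero ?_)
  intro h0
  have h0' : ∑ χ : IrrCharacter L, F χ = 0 := h0
  rw [sum_split hc, ← Finset.add_sum_erase Finset.univ _ (Finset.mem_univ (one1 π.ker)), hblock] at h0'
  have hX1 : one1 L ∉ X (one1 π.ker) := Finset.disjoint_left.1 (hD (one1 π.ker)).disj hone
  have hun : NE (one1 π.ker) ∪ X (one1 π.ker) = insert (one1 L) ((NE (one1 π.ker)).erase (one1 L) ∪ X (one1 π.ker)) := by
    rw [← Finset.insert_union, Finset.insert_erase hone]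
  have hnot : one1 L ∉ (NE (one1 π.ker)).erase (one1 L) ∪ X (one1 π.ker) := by
    rw [Finset.mem_union, not_or]
    exact ⟨Finset.notMem_erase _ _, hX1⟩
  rw [hun, Finset.sum_insert hnot] at h0'
  have hF1 : F (one1 L) = 1 := by
    rw [hFdef]
    simp [one1_apply]
  rw [hF1] at h0'
  have b1 := base_le D hs hc h2 (hD (one1 π.ker)) hx hy hg hg'
  have b2 : ∀ θ ∈ Finset.univ.erase (one1 π.ker), ‖∑ χ ∈ ov π.ker (θ : π.ker → ℂ), F χ‖ ≤ 0.45403 + 0.1 := by
    intro θ hθ
    rw [hblock]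
    exact faithful_le D hs hc h2 hdiv (Finset.ne_of_mem_erase hθ) (hD θ) hx hy hx' hg hg'
  have b4 : ‖∑ θ ∈ Finset.univ.erase (one1 π.ker), ∑ χ ∈ ov π.ker (θ : π.ker → ℂ), F χ‖ ≤ 0.45403 + 0.1 := by
    refine (norm_sum_le _ _).trans ((Finset.sum_le_sum b2).trans ?_)
    rw [Finset.sum_const, nsmul_eq_mul, Finset.card_erase_of_mem (Finset.mem_univ _), Finset.card_univ,
      ← Nat.card_eq_fintype_card, card_irr_ker hc, h2]
    norm_num
  have h5 : ∑ χ ∈ (NE (one1 π.ker)).erase (one1 L) ∪ X (one1 π.ker), F χ +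
      ∑ θ ∈ Finset.univ.erase (one1 π.ker), ∑ χ ∈ ov π.ker (θ : π.ker → ℂ), F χ = -1 := by
    linear_combination h0'
  have h6 := norm_add_le (∑ χ ∈ (NE (one1 π.ker)).erase (one1 L) ∪ X (one1 π.ker), F χ)
    (∑ θ ∈ Finset.univ.erase (one1 π.ker), ∑ χ ∈ ov π.ker (θ : π.ker → ℂ), F χ)
  rw [h5, norm_neg, norm_one] at h6
  norm_num at b1 b4 h6
  linarith

end Cfsg.Agent.H113.QS.TwoB
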